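import Mathlib

/-!
# S2464: a nonscalar matrix has a nonscalar `3 × 3` corner of determinant one with nonscalar Schur complement (helper308)

* `Cj A B` : `B = P A P⁻¹`, `det P = 1`
* `step` : a pivot
* `gl_corner` : index type `Fin 3 ⊕ Fin k`, `k ≥ 1`
* `gl_corner_fin` : index type `Fin (3 + k)`
-/

set_option autoImplicit false
set_option linter.unusedSectionVars false
set_option linter.unusedSimpArgs false

namespace Cfsg.Agent.H308.TC

open Matrix

variable {F : Type*} [Field F]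

/-- not a scalar matrix -/
def NS {n : Type*} [DecidableEq n] (A : Matrix n n F) : Prop := ∀ c : F, A ≠ c • (1 : Matrix n n F)

/-- conjugate under the special linear group -/
def Cj {n : Type*} [Fintype n] [DecidableEq n] (A B : Matrix n n F) : Prop :=
  ∃ P P' : Matrix n n F, P * P' = 1 ∧ P.det = 1 ∧ P * A * P' = B

section gen

variable {n : Type*} [Fintype n] [DecidableEq n]

theorem Cj.refl (A : Matrix n n F) : Cj A A := ⟨1, 1, by simp, by simp, by simp⟩

theorem Cj.trans {A B C : Matrix n n F} (h : Cj A B) (h' : Cj B C) : Cj A C := by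
  obtain ⟨P, P', h1, h2, h3⟩ := h
  obtain ⟨R, R', g1, g2, g3⟩ := h'
  refine ⟨R * P, P' * R', ?_, ?_, ?_⟩
  · calc R * P * (P' * R') = R * (P * P') * R' := by simp only [Matrix.mul_assoc]
      _ = 1 := by rw [h1, Matrix.mul_one, g1]
  · rw [det_mul, h2, g2, one_mul]
  · rw [← g3, ← h3]
    simp only [Matrix.mul_assoc]

theorem Cj.det_eq {A B : Matrix n n F} (h : Cj A B) : B.det = A.det := by
  obtain ⟨P, P', h1, h2, h3⟩ := h
  have h4 : P.det * P'.det = 1 := by rw [← det_mul, h1, det_one]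
  rw [h2, one_mul] at h4
  rw [← h3, det_mul, det_mul, h2, h4, one_mul, mul_one]

theorem Cj.ns {A B : Matrix n n F} (h : Cj A B) (hA : NS A) : NS B := by
  obtain ⟨P, P', h1, h2, h3⟩ := h
  intro c hc
  apply hA c
  have h4 : P' * P = 1 := mul_eq_one_comm.1 h1
  have h5 : P' * B * P = A := by
    rw [← h3]
    calc P' * (P * A * P') * P = (P' * P) * A * (P' * P) := by simp only [Matrix.mul_assoc]
      _ = A := by rw [h4, Matrix.one_mul, Matrix.mul_one]
  rw [← h5, hc, Matrix.mul_smul, Matrix.mul_one, Matrix.smul_mul, h4]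

/-- conjugation by a lower block unipotent matrix -/
theorem cj_lo {m : Type*} [Fintype m] [DecidableEq m] (z : Matrix n m F) (A : Matrix m m F) (B : Matrix m n F)
    (C : Matrix n m F) (D : Matrix n n F) :
    Cj (fromBlocks A B C D) (fromBlocks (A - B * z) B (z * A + C - (z * B + D) * z) (z * B + D)) := by
  refine ⟨fromBlocks 1 0 z 1, fromBlocks 1 0 (-z) 1, ?_, ?_, ?_⟩
  · rw [fromBlocks_multiply]
    simp
  · rw [det_fromBlocks_zero₁₂]
    simp
  · rw [fromBlocks_multiply, fromBlocks_multiply]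
    simp only [Matrix.one_mul, Matrix.zero_mul, Matrix.mul_one, Matrix.mul_zero, add_zero, zero_add, Matrix.mul_neg,
      ← sub_eq_add_neg]

/-- conjugation by an upper block unipotent matrix -/
theorem cj_up {m : Type*} [Fintype m] [DecidableEq m] (z : Matrix m n F) (A : Matrix m m F) (B : Matrix m n F)
    (C : Matrix n m F) (D : Matrix n n F) :
    Cj (fromBlocks A B C D) (fromBlocks (A + z * C) (B + z * D - (A + z * C) * z) C (D - C * z)) := by
  refine ⟨fromBlocks 1 z 0 1, fromBlocks 1 (-z) 0 1, ?_, ?_, ?_⟩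
  · rw [fromBlocks_multiply]
    simp
  · rw [det_fromBlocks_zero₂₁]
    simp
  · rw [fromBlocks_multiply, fromBlocks_multiply]
    congr 1
    · simp
    · simp only [Matrix.one_mul, Matrix.mul_one, Matrix.mul_neg]
      abel
    · simp
    · simp only [Matrix.one_mul, Matrix.zero_mul, Matrix.mul_one, Matrix.mul_neg, zero_add]
      abel

end gen

/-! ### one pivot -/

section step

variable {n : Type*} [Fintype n] [DecidableEq n]

theorem mul_unit {m l : Type*} (A : Matrix m Unit F) (B : Matrix Unit l F) (i : m) (j : l) :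
    (A * B) i j = A i () * B () j := by
  simp [Matrix.mul_apply]

/-- the first column is not a multiple of the first basis vector -/
theorem step_one (hF : ∃ c : F, c ≠ 0 ∧ c ≠ 1) {A : Matrix (Unit ⊕ n) (Unit ⊕ n) F} (hA : NS A) :
    ∃ (a : Matrix Unit Unit F) (y : Matrix Unit n F) (x : Matrix n Unit F) (D : Matrix n n F), x ≠ 0 ∧ Cj A (fromBlocks a y x D) := by
  obtain ⟨a, y, x, D, rfl⟩ : ∃ a y x D, A = fromBlocks a y x D :=
    ⟨A.toBlocks₁₁, A.toBlocks₁₂, A.toBlocks₂₁, A.toBlocks₂₂, (fromBlocks_toBlocks A).symm⟩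
  by_cases hx : x = 0
  · subst hx
    by_contra hcon
    push Not at hcon
    have key : ∀ z : Matrix n Unit F, z * a - (z * y + D) * z = 0 := by
      intro z
      by_contra hz
      have := hcon _ _ _ _ (by simpa using hz) (cj_lo z a y 0 D)
      exact this
    have key2 : ∀ (j : n) (c : F) (i : n), (if i = j then c * a () () - c * c * y () j else 0) - c * D i j = 0 := by
      intro j c i
      have h1 := congrFun (congrFun (key (Matrix.of fun i _ => if i = j then c else 0)) i) ()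
      rw [Matrix.sub_apply, Matrix.add_mul, Matrix.add_apply, mul_unit, Matrix.mul_assoc, mul_unit, Matrix.mul_apply,
        Matrix.mul_apply] at h1
      simp only [Matrix.of_apply, Matrix.zero_apply, mul_ite, mul_zero, Finset.sum_ite_eq', Finset.mem_univ, if_true] at h1
      split_ifs at h1 ⊢ <;> linear_combination h1
    obtain ⟨c, hc0, hc1⟩ := hF
    have e1 : ∀ j, y () j = 0 := by
      intro j
      have h1 := key2 j 1 j
      have h2 := key2 j c j
      rw [if_pos rfl] at h1 h2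
      have h3 : c * (c - 1) * y () j = 0 := by linear_combination c * h1 - h2
      exact (mul_eq_zero.1 h3).resolve_left (mul_ne_zero hc0 (sub_ne_zero.2 hc1))
    apply hA (a () ())
    ext i j
    rcases i with i | i <;> rcases j with j | j
    · simp
    · simp [e1 j]
    · simp
    · have h1 := key2 j 1 i
      rw [e1 j] at h1
      rw [fromBlocks_apply₂₂, Matrix.smul_apply, Matrix.one_apply, smul_eq_mul]
      by_cases hij : i = j
      · rw [if_pos hij] at h1
        rw [if_pos (congrArg Sum.inr hij)]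
        linear_combination -h1
      · rw [if_neg hij] at h1
        rw [if_neg (fun h => hij (Sum.inr_injective h))]
        linear_combination -h1
  · exact ⟨a, y, x, D, hx, Cj.refl _⟩

theorem exists_row {x : Matrix n Unit F} (hx : x ≠ 0) (b : F) : ∃ z : Matrix Unit n F, (z * x) () () = b := by
  obtain ⟨i, hi⟩ : ∃ i, x i () ≠ 0 := by
    by_contra hcon
    push Not at hcon
    apply hx
    ext i j
    exact hcon i
  refine ⟨Matrix.of fun _ j => if j = i then b * (x i ())⁻¹ else 0, ?_⟩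
  rw [Matrix.mul_apply]
  simp only [Matrix.of_apply, ite_mul, zero_mul, Finset.sum_ite_eq', Finset.mem_univ, if_true]
  rw [mul_assoc, inv_mul_cancel₀ hi, mul_one]

/-- the pivot -/
theorem step_two {a : Matrix Unit Unit F} {y : Matrix Unit n F} {x : Matrix n Unit F} {D : Matrix n n F} (hx : x ≠ 0) (d : F) :
    ∃ (y' : Matrix Unit n F) (D' : Matrix n n F), Cj (fromBlocks a y x D) (fromBlocks (d • 1) y' x D') := by
  obtain ⟨z, hz⟩ := exists_row hx (d - a () ())
  have h := cj_up z a y x D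
  have h1 : a + z * x = d • 1 := by
    ext i j
    rw [Matrix.add_apply, hz]
    simp
  rw [h1] at h
  exact ⟨_, _, h⟩

theorem exists_ker [Nontrivial n] (x : Matrix n Unit F) : ∃ z : Matrix Unit n F, z ≠ 0 ∧ z * x = 0 := by
  obtain ⟨i, j, hij⟩ := exists_pair_ne n
  by_cases hi : x i () = 0
  · refine ⟨Matrix.of fun _ l => if l = i then 1 else 0, fun h => ?_, ?_⟩
    · have := congrFun (congrFun h ()) i
      simp at this
    · ext u v
      rw [Matrix.mul_apply]
      simp [hi]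
  · refine ⟨Matrix.of fun _ l => (if l = i then x j () else 0) - (if l = j then x i () else 0), fun h => ?_, ?_⟩
    · have := congrFun (congrFun h ()) j
      simp [hij.symm] at this
      exact hi this
    · ext u v
      rw [Matrix.mul_apply]
      simp only [Matrix.of_apply, sub_mul, ite_mul, zero_mul, Finset.sum_sub_distrib, Finset.sum_ite_eq', Finset.mem_univ,
        if_true, Matrix.zero_apply]
      ring

/-- the factorization -/
theorem fac_blocks {m : Type*} [Fintype m] [DecidableEq m] {d : F} (hd : d ≠ 0) (y : Matrix m n F) (x : Matrix n m F) (D : Matrix n n F) :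
    fromBlocks (d • 1) y x D = fromBlocks 1 0 (d⁻¹ • x) 1 * fromBlocks (d • 1) 0 0 (D - d⁻¹ • (x * y)) * fromBlocks 1 (d⁻¹ • y) 0 1 := by
  rw [fromBlocks_multiply, fromBlocks_multiply]
  have e1 : d⁻¹ * d = 1 := inv_mul_cancel₀ hd
  have e2 : d * d⁻¹ = 1 := mul_inv_cancel₀ hd
  congr 1
  · simp
  · simp [smul_smul, e1, e2]
  · simp [smul_smul, e1, e2]
  · simp [smul_smul, e1, e2]

theorem det_fac {m : Type*} [Fintype m] [DecidableEq m] (x : Matrix n m F) (y : Matrix m n F) (S : Matrix n n F) (D : Matrix m m F) :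
    (fromBlocks 1 0 x 1 * fromBlocks D 0 0 S * fromBlocks 1 y 0 1).det = D.det * S.det := by
  rw [det_mul, det_mul, det_fromBlocks_zero₁₂, det_fromBlocks_zero₁₂, det_fromBlocks_zero₂₁]
  simp

/-- **one pivot** -/
theorem step (hF : ∃ c : F, c ≠ 0 ∧ c ≠ 1) {A : Matrix (Unit ⊕ n) (Unit ⊕ n) F} (hA : NS A) (hdet : A.det ≠ 0) {d : F}
    (hd : d ≠ 0) : ∃ (x : Matrix n Unit F) (y : Matrix Unit n F) (S : Matrix n n F),
      Cj A (fromBlocks 1 0 x 1 * fromBlocks (d • 1) 0 0 S * fromBlocks 1 y 0 1) ∧ (Nontrivial n → NS S) ∧ d * S.det = A.det := by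
  obtain ⟨a, y, x, D, hx, h1⟩ := step_one hF hA
  obtain ⟨y', D', h2⟩ := step_two (a := a) (y := y) (D := D) hx d
  have h3 := h1.trans h2
  have key : ∀ (y' : Matrix Unit n F) (D' : Matrix n n F), Cj A (fromBlocks (d • 1) y' x D') →
      d * (D' - d⁻¹ • (x * y')).det = A.det := by
    intro y' D' h
    have h4 := h.det_eq
    rw [fac_blocks hd, det_fac] at h4
    rw [← h4]
    simp
  by_cases hT : Nontrivial n → NS (D' - d⁻¹ • (x * y'))
  · exact ⟨_, _, _, by rw [← fac_blocks hd]; exact h3, hT, key _ _ h3⟩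
  · push Not at hT
    obtain ⟨hn, hT⟩ := hT
    unfold NS at hT
    push Not at hT
    obtain ⟨c, hc⟩ := hT
    have hc0 : c ≠ 0 := by
      rintro rfl
      have h4 := key _ _ h3
      rw [hc, zero_smul, Matrix.det_zero, mul_zero] at h4
      exact hdet h4.symm
    obtain ⟨z, hz0, hz⟩ := exists_ker x
    have h4 := h3.trans (cj_up z (d • (1 : Matrix Unit Unit F)) y' x D')
    rw [hz, add_zero] at h4
    refine ⟨_, _, _, by rw [← fac_blocks hd]; exact h4, fun _ => ?_, key _ _ h4⟩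
    have hD' : D' = c • 1 + d⁻¹ • (x * y') := by rw [← hc]; abel
    have e1 : D' - x * z - d⁻¹ • (x * (y' + z * D' - (d • (1 : Matrix Unit Unit F)) * z)) =
        c • (1 - d⁻¹ • (x * z)) := by
      have e2 : z * D' = c • z := by
        rw [hD', Matrix.mul_add, Matrix.mul_smul, Matrix.mul_one, Matrix.mul_smul, ← Matrix.mul_assoc, hz, Matrix.zero_mul,
          smul_zero, add_zero]
      rw [e2, Matrix.mul_sub, Matrix.mul_add, Matrix.mul_smul, Matrix.smul_mul, Matrix.one_mul, Matrix.mul_smul]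
      rw [hD']
      rw [smul_sub, smul_add, smul_smul d⁻¹ d, inv_mul_cancel₀ hd, one_smul, smul_sub, smul_comm c d⁻¹]
      abel
    rw [e1]
    intro e he
    have h5 : (c - e) • x = 0 := by
      have h6 := congrArg (fun M => M * x) he
      simp only [Matrix.smul_mul, Matrix.sub_mul, Matrix.one_mul, Matrix.mul_assoc, hz, Matrix.mul_zero, smul_zero, sub_zero] at h6
      rw [sub_smul, h6, sub_self]
    have h6 : c = e := sub_eq_zero.1 ((smul_eq_zero.1 h5).resolve_right hx)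
    rw [← h6, smul_sub, sub_eq_self, smul_smul] at he
    have h7 : x * z = 0 := (smul_eq_zero.1 he).resolve_left (mul_ne_zero hc0 (inv_ne_zero hd))
    obtain ⟨i, hi⟩ : ∃ i, x i () ≠ 0 := by
      by_contra hcon
      push Not at hcon
      apply hx
      ext i j
      exact hcon i
    apply hz0
    ext u j
    have h8 := congrFun (congrFun h7 i) j
    rw [mul_unit, Matrix.zero_apply] at h8
    exact (mul_eq_zero.1 h8).resolve_left hi

/-- conjugation of the Schur complement -/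
theorem Cj.lift {m : Type*} [Fintype m] [DecidableEq m] {S S' : Matrix n n F} (h : Cj S S') (D : Matrix m m F) (x : Matrix n m F)
    (y : Matrix m n F) : ∃ (x' : Matrix n m F) (y' : Matrix m n F),
      Cj (fromBlocks 1 0 x 1 * fromBlocks D 0 0 S * fromBlocks 1 y 0 1)
        (fromBlocks 1 0 x' 1 * fromBlocks D 0 0 S' * fromBlocks 1 y' 0 1) := by
  obtain ⟨P, P', h1, h2, h3⟩ := h
  refine ⟨P * x, y * P', fromBlocks 1 0 0 P, fromBlocks 1 0 0 P', ?_, ?_, ?_⟩
  · rw [fromBlocks_multiply]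
    simp [h1]
  · rw [det_fromBlocks_zero₁₂]
    simp [h2]
  · rw [← h3]
    simp only [fromBlocks_multiply]
    congr 1 <;> simp [Matrix.mul_assoc, Matrix.add_mul, Matrix.mul_add]

end step

/-! ### three pivots -/

section three

variable {n : Type*} [Fintype n] [DecidableEq n]

theorem Cj.sub {m : Type*} [Fintype m] [DecidableEq m] {A B : Matrix n n F} (h : Cj A B) (f : m ≃ n) :
    Cj (A.submatrix f f) (B.submatrix f f) := by
  obtain ⟨P, P', h1, h2, h3⟩ := h
  refine ⟨P.submatrix f f, P'.submatrix f f, ?_, ?_, ?_⟩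
  · rw [Matrix.submatrix_mul_equiv, h1, Matrix.submatrix_one_equiv]
  · rw [Matrix.det_submatrix_equiv_self, h2]
  · rw [Matrix.submatrix_mul_equiv, Matrix.submatrix_mul_equiv, h3]

theorem NS.sub {m : Type*} [DecidableEq m] {A : Matrix n n F} (h : NS A) (f : m ≃ n) : NS (A.submatrix f f) := by
  intro c hc
  apply h c
  have h1 := congrArg (fun M : Matrix m m F => M.submatrix f.symm f.symm) hc
  simp only [Matrix.submatrix_submatrix, Matrix.submatrix_smul, Pi.smul_apply, Matrix.submatrix_one_equiv,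
    Equiv.self_comp_symm, Matrix.submatrix_id_id] at h1
  exact h1

/-- `1 + (1 + (1 + n)) = 3 + n` -/
def e3 (n : Type*) : Unit ⊕ (Unit ⊕ (Unit ⊕ n)) ≃ Fin 3 ⊕ n where
  toFun
    | Sum.inl _ => Sum.inl 0
    | Sum.inr (Sum.inl _) => Sum.inl 1
    | Sum.inr (Sum.inr (Sum.inl _)) => Sum.inl 2
    | Sum.inr (Sum.inr (Sum.inr j)) => Sum.inr j
  invFun
    | Sum.inl i => ![Sum.inl (), Sum.inr (Sum.inl ()), Sum.inr (Sum.inr (Sum.inl ()))] i
    | Sum.inr j => Sum.inr (Sum.inr (Sum.inr j))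
  left_inv := by rintro (_ | _ | _ | _) <;> rfl
  right_inv := by
    rintro (i | j)
    · fin_cases i <;> rfl
    · rfl

/-- the nested factorization -/
def nest (d₁ d₂ d₃ : F) (x₁ : Matrix (Unit ⊕ (Unit ⊕ n)) Unit F) (y₁ : Matrix Unit (Unit ⊕ (Unit ⊕ n)) F)
    (x₂ : Matrix (Unit ⊕ n) Unit F) (y₂ : Matrix Unit (Unit ⊕ n) F) (x₃ : Matrix n Unit F) (y₃ : Matrix Unit n F)
    (S : Matrix n n F) : Matrix (Unit ⊕ (Unit ⊕ (Unit ⊕ n))) (Unit ⊕ (Unit ⊕ (Unit ⊕ n))) F :=
  fromBlocks 1 0 x₁ 1 * fromBlocks (d₁ • 1) 0 0 (fromBlocks 1 0 x₂ 1 * fromBlocks (d₂ • 1) 0 0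
    (fromBlocks 1 0 x₃ 1 * fromBlocks (d₃ • 1) 0 0 S * fromBlocks 1 y₃ 0 1) * fromBlocks 1 y₂ 0 1) * fromBlocks 1 y₁ 0 1

theorem fac_mul {m : Type*} [Fintype m] [DecidableEq m] (d : F) (x : Matrix n m F) (y : Matrix m n F) (S : Matrix n n F) :
    fromBlocks 1 0 x 1 * fromBlocks (d • 1) 0 0 S * fromBlocks 1 y 0 1 = fromBlocks (d • 1) (d • y) (d • x) (d • (x * y) + S) := by
  rw [fromBlocks_multiply, fromBlocks_multiply]
  congr 1 <;> simp

theorem nest_sub (d₁ d₂ d₃ : F) (x₁ : Matrix (Unit ⊕ (Unit ⊕ n)) Unit F) (y₁ : Matrix Unit (Unit ⊕ (Unit ⊕ n)) F)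
    (x₂ : Matrix (Unit ⊕ n) Unit F) (y₂ : Matrix Unit (Unit ⊕ n) F) (x₃ : Matrix n Unit F) (y₃ : Matrix Unit n F)
    (S : Matrix n n F) : ∃ (a b c a' b' c' : F) (X : Matrix n (Fin 3) F) (Y : Matrix (Fin 3) n F),
      (nest d₁ d₂ d₃ x₁ y₁ x₂ y₂ x₃ y₃ S).submatrix (e3 n).symm (e3 n).symm =
        fromBlocks !![1, 0, 0; a, 1, 0; b, c, 1] 0 X 1 * fromBlocks !![d₁, 0, 0; 0, d₂, 0; 0, 0, d₃] 0 0 S *
          fromBlocks !![1, a', b'; 0, 1, c'; 0, 0, 1] Y 0 1 := by
  refine ⟨x₁ (Sum.inl ()) (), x₁ (Sum.inr (Sum.inl ())) (), x₂ (Sum.inl ()) (), y₁ () (Sum.inl ()), y₁ () (Sum.inr (Sum.inl ())),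
    y₂ () (Sum.inl ()), Matrix.of fun i j => ![x₁ (Sum.inr (Sum.inr i)) (), x₂ (Sum.inr i) (), x₃ i ()] j,
    Matrix.of fun i j => ![y₁ () (Sum.inr (Sum.inr j)), y₂ () (Sum.inr j), y₃ () j] i, ?_⟩
  rw [fromBlocks_multiply, fromBlocks_multiply, nest, fac_mul, fac_mul, fac_mul]
  ext i j
  rcases i with i | i <;> rcases j with j | j
  · fin_cases i <;> fin_cases j <;> simp [e3, Matrix.mul_apply, Fin.sum_univ_three] <;> ring
  · fin_cases i <;> simp [e3, Matrix.mul_apply, Fin.sum_univ_three, vecHead, vecTail] <;> ring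
  · fin_cases j <;> simp [e3, Matrix.mul_apply, Fin.sum_univ_three] <;> ring
  · simp [e3, Matrix.mul_apply, Fin.sum_univ_three]; ring

end three

/-! ### the corner -/

theorem corner_ns {d₁ d₂ d₃ a b c a' b' c' : F} (h1 : d₁ ≠ 0) (h : d₁ ≠ d₂) :
    NS (!![1, 0, 0; a, 1, 0; b, c, 1] * !![d₁, 0, 0; 0, d₂, 0; 0, 0, d₃] * !![1, a', b'; 0, 1, c'; 0, 0, 1] :
      Matrix (Fin 3) (Fin 3) F) := by
  intro e he
  have e1 := congrFun (congrFun he 0) 0
  have e2 := congrFun (congrFun he 1) 0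
  have e3 := congrFun (congrFun he 1) 1
  simp [Matrix.mul_apply, Fin.sum_univ_three] at e1 e2 e3
  rcases e2 with e2 | e2
  · rw [e2] at e3
    apply h
    rw [e1, ← e3]
    ring
  · exact h1 e2

theorem corner_det {d₁ d₂ d₃ a b c a' b' c' : F} :
    (!![1, 0, 0; a, 1, 0; b, c, 1] * !![d₁, 0, 0; 0, d₂, 0; 0, 0, d₃] * !![1, a', b'; 0, 1, c'; 0, 0, 1] :
      Matrix (Fin 3) (Fin 3) F).det = d₁ * d₂ * d₃ := by
  rw [det_mul, det_mul, det_fin_three, det_fin_three, det_fin_three]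
  simp

/-- **the corner theorem** -/
theorem gl_corner {n : Type*} [Fintype n] [DecidableEq n] [Nonempty n] (hF : ∃ c : F, c ≠ 0 ∧ c ≠ 1)
    {A : Matrix (Fin 3 ⊕ n) (Fin 3 ⊕ n) F} (hA : NS A) (hdet : A.det ≠ 0) :
    ∃ (X : Matrix n (Fin 3) F) (Y : Matrix (Fin 3) n F) (A₃ : Matrix (Fin 3) (Fin 3) F) (B : Matrix n n F),
      Cj A (fromBlocks 1 0 X 1 * fromBlocks A₃ 0 0 B * fromBlocks 1 Y 0 1) ∧ A₃.det = 1 ∧ NS A₃ ∧ B.det = A.det ∧
        (Nontrivial n → NS B) := by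
  obtain ⟨d, hd0, hd1⟩ := hF
  have hF : ∃ c : F, c ≠ 0 ∧ c ≠ 1 := ⟨d, hd0, hd1⟩
  have hdi : d⁻¹ ≠ 0 := inv_ne_zero hd0
  have hA' := hA.sub (e3 n)
  have hdet' : (A.submatrix (e3 n) (e3 n)).det ≠ 0 := by rwa [Matrix.det_submatrix_equiv_self]
  obtain ⟨x₁, y₁, S₁, h1, n1, g1⟩ := step hF hA' hdet' hd0
  have hS1 : S₁.det ≠ 0 := by
    intro h0
    rw [h0, mul_zero] at g1
    exact hdet' g1.symm
  obtain ⟨x₂, y₂, S₂, h2, n2, g2⟩ := step hF (n1 ⟨Sum.inl (), Sum.inr (Sum.inl ()), by simp⟩) hS1 one_ne_zero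
  have hS2 : S₂.det ≠ 0 := by
    intro h0
    rw [h0, mul_zero] at g2
    exact hS1 g2.symm
  have hn2 : Nontrivial (Unit ⊕ n) := ⟨Sum.inl (), Sum.inr (Classical.arbitrary n), by simp⟩
  obtain ⟨x₃, y₃, S₃, h3, n3, g3⟩ := step hF (n2 hn2) hS2 hdi
  obtain ⟨x₂', y₂', h4⟩ := h3.lift ((1 : F) • (1 : Matrix Unit Unit F)) x₂ y₂
  obtain ⟨x₁', y₁', h5⟩ := (h2.trans h4).lift (d • (1 : Matrix Unit Unit F)) x₁ y₁
  have h6 := (h1.trans h5).sub (e3 n).symm
  rw [Matrix.submatrix_submatrix, Equiv.self_comp_symm, Matrix.submatrix_id_id] at h6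
  obtain ⟨a, b, c, a', b', c', X, Y, h7⟩ := nest_sub d 1 d⁻¹ x₁' y₁' x₂' y₂' x₃ y₃ S₃
  unfold nest at h7
  rw [h7] at h6
  obtain ⟨L, hL⟩ : ∃ L : Matrix (Fin 3) (Fin 3) F, L = !![1, 0, 0; a, 1, 0; b, c, 1] := ⟨_, rfl⟩
  obtain ⟨D, hD⟩ : ∃ D : Matrix (Fin 3) (Fin 3) F, D = !![d, 0, 0; 0, 1, 0; 0, 0, d⁻¹] := ⟨_, rfl⟩
  obtain ⟨U, hU⟩ : ∃ U : Matrix (Fin 3) (Fin 3) F, U = !![1, a', b'; 0, 1, c'; 0, 0, 1] := ⟨_, rfl⟩
  have hLd : IsUnit L.det := by rw [hL, det_fin_three]; simp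
  have hUd : IsUnit U.det := by rw [hU, det_fin_three]; simp
  have hLi : L⁻¹ * L = 1 := Matrix.nonsing_inv_mul _ hLd
  have hUi : U * U⁻¹ = 1 := Matrix.mul_nonsing_inv _ hUd
  rw [← hL, ← hD, ← hU] at h6
  have h8 : fromBlocks L 0 X 1 * fromBlocks D 0 0 S₃ * fromBlocks U Y 0 1 =
      fromBlocks 1 0 (X * L⁻¹) 1 * fromBlocks (L * D * U) 0 0 S₃ * fromBlocks 1 (U⁻¹ * Y) 0 1 := by
    rw [fromBlocks_multiply, fromBlocks_multiply, fromBlocks_multiply, fromBlocks_multiply]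
    have e1 : L * D * U * (U⁻¹ * Y) = L * D * Y := by
      rw [Matrix.mul_assoc (L * D), ← Matrix.mul_assoc U, hUi, Matrix.one_mul]
    have e2 : X * L⁻¹ * (L * D * U) = X * D * U := by
      rw [Matrix.mul_assoc L, Matrix.mul_assoc X, ← Matrix.mul_assoc L⁻¹, hLi, Matrix.one_mul, Matrix.mul_assoc]
    congr 1
    · simp
    · simp only [Matrix.mul_zero, Matrix.mul_one, add_zero, Matrix.one_mul, zero_add, e1]
    · simp only [Matrix.mul_zero, Matrix.mul_one, add_zero, Matrix.one_mul, zero_add, e2]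
    · simp only [Matrix.mul_zero, Matrix.mul_one, add_zero, Matrix.one_mul, zero_add, e2]
      rw [Matrix.mul_assoc (X * D), ← Matrix.mul_assoc U, hUi, Matrix.one_mul]
  rw [h8] at h6
  have h9 : (L * D * U).det = 1 := by
    rw [hL, hD, hU, corner_det, mul_one, mul_inv_cancel₀ hd0]
  refine ⟨_, _, _, _, h6, h9, ?_, ?_, n3⟩
  · rw [hL, hD, hU]
    exact corner_ns hd0 hd1
  · have h10 := h6.det_eq
    rw [det_fac, h9, one_mul] at h10
    exact h10

/-- the corner theorem, index type `Fin (3 + k)` -/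
theorem gl_corner_fin (hF : ∃ c : F, c ≠ 0 ∧ c ≠ 1) {k : ℕ} (hk : 1 ≤ k) {A : Matrix (Fin (3 + k)) (Fin (3 + k)) F}
    (hA : NS A) (hdet : A.det ≠ 0) :
    ∃ (P P' : Matrix (Fin (3 + k)) (Fin (3 + k)) F) (X : Matrix (Fin k) (Fin 3) F) (Y : Matrix (Fin 3) (Fin k) F)
      (A₃ : Matrix (Fin 3) (Fin 3) F) (B : Matrix (Fin k) (Fin k) F),
      P * P' = 1 ∧ P.det = 1 ∧ (P * A * P').submatrix finSumFinEquiv finSumFinEquiv =
        fromBlocks 1 0 X 1 * fromBlocks A₃ 0 0 B * fromBlocks 1 Y 0 1 ∧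
        A₃.det = 1 ∧ NS A₃ ∧ B.det = A.det ∧ (2 ≤ k → NS B) := by
  have : Nonempty (Fin k) := ⟨⟨0, by omega⟩⟩
  obtain ⟨X, Y, A₃, B, hc, h1, h2, h3, h4⟩ := gl_corner hF (hA.sub finSumFinEquiv) (by rwa [Matrix.det_submatrix_equiv_self])
  obtain ⟨P, P', g1, g2, g3⟩ := hc.sub finSumFinEquiv.symm
  rw [Matrix.submatrix_submatrix, Equiv.self_comp_symm, Matrix.submatrix_id_id] at g3
  refine ⟨P, P', X, Y, A₃, B, g1, g2, ?_, h1, h2, ?_, fun hk2 => h4 (Fin.nontrivial_iff_two_le.2 hk2)⟩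
  · rw [g3, Matrix.submatrix_submatrix, Equiv.symm_comp_self, Matrix.submatrix_id_id]
  · rw [h3, Matrix.det_submatrix_equiv_self]

end Cfsg.Agent.H308.TC
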