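import Cfsg.Agent.H140.TC.Corner

/-!
# S2464, orthogonal groups: a nonscalar corner of determinant a given square with Schur complement `1` (helper308)

`nsCorner_scale` : every nonscalar `g ∈ Ω` has a maximal frame with Schur complement `1` and nonscalar corner of
determinant `s ^ 2`, `s ≠ 0` given (variant of `H140.TC.nsCorner`).
-/

set_option autoImplicit false

namespace Cfsg.Agent.H308.TC

open Module QuadraticMap Cfsg.Agent.LieClassical.OrthCore Cfsg.Agent.LieClassical.OrthTrans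
open Cfsg.Agent.H140.OreO (Frame SchurOne)
open Cfsg.Agent.H434.Corn

variable {F V : Type*} [Field F] [AddCommGroup V] [Module F V] {Q : QuadraticForm F V}

theorem ns_adjust {U : Type*} [AddCommGroup U] [Module F U] [FiniteDimensional F U] {A : U →ₗ[F] U}
    {H : Submodule F U} (hH0 : H ≠ ⊥) (hH1 : H ≠ ⊤) (hdet : LinearMap.det A ≠ 0) :
    ∃ φ : U →ₗ[F] U, (∀ h ∈ H, φ h = 0) ∧ (∀ u, φ u ∈ H.map A) ∧ LinearMap.det (A + φ) = LinearMap.det A ∧
      ∀ c : F, A + φ ≠ c • LinearMap.id := by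
  classical
  obtain ⟨r₀, hr₀H, hr₀⟩ := Submodule.exists_mem_ne_zero_of_ne_bot hH0
  obtain ⟨u₀, -, hu₀⟩ := SetLike.exists_of_lt (lt_of_le_of_ne (le_top : H ≤ ⊤) hH1)
  by_cases hA : ∀ c : F, A ≠ c • LinearMap.id
  · exact ⟨0, fun _ _ => rfl, fun u => Submodule.zero_mem _, by rw [add_zero], by rwa [add_zero]⟩
  · push Not at hA
    obtain ⟨c, hc⟩ := hA
    obtain ⟨ψ, hψ, hψ1⟩ := exists_functional hu₀
    have hAr : ∀ u, A u = c • u := fun u => by rw [hc]; rfl
    have e : A + ψ.smulRight (A r₀) = A ∘ₗ LinearMap.transvection ψ r₀ := by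
      ext u
      simp [LinearMap.transvection.apply]
    have hc0 : c ≠ 0 := by
      rintro rfl
      have h1 : IsUnit A := (LinearMap.isUnit_iff_isUnit_det A).2 hdet.isUnit
      have h2 := ((Module.End.isUnit_iff A).1 h1).1
      apply hr₀
      apply h2
      rw [hAr, zero_smul, map_zero]
    refine ⟨ψ.smulRight (A r₀), fun h hh => ?_, fun u => ?_, ?_, fun d hd => ?_⟩
    · rw [LinearMap.smulRight_apply, hψ h hh, zero_smul]
    · rw [LinearMap.smulRight_apply]
      exact Submodule.smul_mem _ _ ⟨r₀, hr₀H, rfl⟩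
    · rw [e, LinearMap.det_comp, LinearMap.transvection.det, hψ r₀ hr₀H]
      ring
    · have h1 := LinearMap.congr_fun hd r₀
      rw [LinearMap.add_apply, LinearMap.smulRight_apply, hψ r₀ hr₀H, zero_smul, add_zero, hAr] at h1
      have h2 : (c - d) • r₀ = 0 := by
        rw [sub_smul, sub_eq_zero]
        exact h1
      have h3 : c = d := sub_eq_zero.1 ((smul_eq_zero.1 h2).resolve_right hr₀)
      have h4 := LinearMap.congr_fun hd u₀
      rw [LinearMap.add_apply, LinearMap.smulRight_apply, hψ1, one_smul, hAr, hAr, h3] at h4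
      have h5 : d • r₀ = 0 := add_eq_left.1 h4
      rw [← h3] at h5
      exact hr₀ ((smul_eq_zero.1 h5).resolve_left hc0)

/-- the nonscalar corner of determinant `δ` -/
def NSCornerS (m : ℕ) (Q : QuadraticForm F V) (δ : F) (g : V → V) : Prop :=
  ∃ w w' : Fin m → V, Frame Q w w' ∧ SchurOne Q g w w' ∧ (H140.OreO.corner Q g w w').det = δ ∧
    ∀ c : F, H140.OreO.corner Q g w w' ≠ c • (1 : Matrix (Fin m) (Fin m) F)

/-- **The nonscalar corner theorem.** -/
theorem nsCorner_scale [Finite F] [FiniteDimensional F V] (hQ : Nondeg Q) {s₀ : F} (hs₀ : s₀ ≠ 0) {g : V ≃ₗ[F] V}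
    (hg : g ∈ ⁅O Q, O Q⁆) (hs : ∀ c : F, ∃ v, g v ≠ c • v) {m : ℕ} (hm : 3 ≤ m)
    (hWm : ∀ W, MaxTS Q W → finrank F W = m) : NSCornerS m Q (s₀ * s₀) g := by
  classical
  have hgO : g ∈ O Q := mem_E_O hg
  obtain ⟨W, hW, ⟨w₀, hw₀, hw₀'⟩, w₁, hw₁, hw₁0, hw₁'⟩ := exists_moved hQ hgO hs
    (fun W hW => by rw [hWm W hW]; exact hm)
  obtain ⟨W', H, W₁, h, hHW, hmem⟩ := exists_adapted hQ hgO hW
  have heven := h.even_finrank hQ hHW hg
  -- `W₁ ≠ 0`
  have hW₁ne : ∃ w ∈ W₁, w ≠ 0 := by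
    obtain ⟨a, ha, b, hb, hab⟩ := h.split hw₀
    refine ⟨b, hb, ?_⟩
    rintro rfl
    rw [add_zero] at hab
    rw [hab] at hw₀'
    exact hw₀' (h.gH a ha)
  have hd : 1 ≤ finrank F W₁ := by
    obtain ⟨w, hw, hw0⟩ := hW₁ne
    rw [Nat.one_le_iff_ne_zero, Ne, Submodule.finrank_eq_zero]
    intro h0
    rw [h0, Submodule.mem_bot] at hw
    exact hw0 hw
  -- the middle space has dimension at most `2`
  have hM2 : finrank F (mids Q W W') ≤ 2 := by
    by_contra hcon
    push Not at hcon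
    obtain ⟨x, hx, hx0, hxs⟩ := Cfsg.Agent.LieClassical.OrthFinite.exists_sing_mem (Q := Q) (mids Q W W') (by omega)
    exact hx0 (h.dp.anis hW hx hxs)
  have he : finrank F (LinearMap.range h.dlt) ≤ 2 := (LinearMap.finrank_range_le _).trans hM2
  obtain ⟨l, hl⟩ : ∃ l, finrank F W₁ = finrank F (LinearMap.range h.dlt) + (l + l) := by
    rw [Nat.even_iff] at heven
    refine ⟨(finrank F W₁ - finrank F (LinearMap.range h.dlt)) / 2, ?_⟩
    omega
  obtain ⟨A, t, D, hA⟩ := h.exists_datum hl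
  obtain ⟨W'', P⟩ := exists_partner_of_datum h D
  obtain ⟨w, w', b, hf, hS, hc⟩ := P.exists_frame (hWm W hW)
  have hsq := isSquare_corner hQ hf hg hS
  rw [hc, LinearMap.det_toMatrix] at hsq
  obtain ⟨s, hs'⟩ := hsq
  have hdetA : LinearMap.det A ≠ 0 := by
    have h1 : IsUnit (LinearMap.det A) := by
      rw [← LinearMap.isUnit_iff_isUnit_det, Module.End.isUnit_iff]
      exact ⟨hA, LinearMap.injective_iff_surjective.1 hA⟩
    exact h1.ne_zero
  have hs0 : s ≠ 0 := by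
    rintro rfl
    rw [mul_zero] at hs'
    exact hdetA hs'
  obtain ⟨A', t', D', hA'⟩ := h.exists_scale hW₁ne D (mul_ne_zero hs₀ (inv_ne_zero hs0))
  have hdet' : LinearMap.det A' = s₀ * s₀ := by
    rw [hA', hs']
    field_simp
  -- make the corner nonscalar
  have hH0 : H.comap W.subtype ≠ ⊥ := by
    intro h0
    have h1 : (⟨w₁, hw₁⟩ : W) ∈ H.comap W.subtype := h.mem_H hw₁ hw₁'
    rw [h0, Submodule.mem_bot] at h1
    exact hw₁0 (congrArg Subtype.val h1)
  have hH1 : H.comap W.subtype ≠ ⊤ := by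
    intro h0
    have h1 : (⟨w₀, hw₀⟩ : W) ∈ H.comap W.subtype := by rw [h0]; trivial
    exact hw₀' (h.gH w₀ h1)
  obtain ⟨φ, hφ1, hφ2, hφ3, hφ4⟩ := ns_adjust hH0 hH1 (A := A') (by rw [hdet']; exact mul_ne_zero hs₀ hs₀)
  have D'' := D'.add h.dp.ts hgO (φ := φ) (fun w hw => hφ1 w (h.mem_H w.2 hw)) (fun w => by
    obtain ⟨x, hx, hxe⟩ := hφ2 w
    rw [← hxe, D'.fixA x (h.gH _ hx)]
    exact ⟨x, x.2, rfl⟩)
  obtain ⟨W''', P'⟩ := exists_partner_of_datum h D''
  obtain ⟨w, w', b, hf, hS, hc⟩ := P'.exists_frame (hWm W hW)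
  refine ⟨w, w', hf, hS, ?_, fun c hcc => hφ4 c ?_⟩
  · rw [hc, LinearMap.det_toMatrix, hφ3, hdet']
  · rw [hc] at hcc
    apply (LinearMap.toMatrix b b).injective
    rw [hcc, map_smul, LinearMap.toMatrix_id]

end Cfsg.Agent.H308.TC
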